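import Groth.Agent.Lib.Affine25.FiniteSurjective
import Groth.Agent.Lib.Nakai.Restrict
import Groth.Agent.Lib.BlowUp.IdealComap
import Groth.Agent.Lib.IdealModSec.Basic

/-!
# Ampleness descends along finite surjective morphisms of proper schemes
-/

set_option linter.style.haveILetI false

universe u

open CategoryTheory CategoryTheory.Limits Opposite AlgebraicGeometry TopologicalSpace

namespace GrothLib.Ample25

variable {X W : Scheme.{u}} (g : W ⟶ X)

/-- A small coherent quotient of `g_* O_W` kills the direct image of the pulled back annihilator. -/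
theorem push_map_idealModι_comp [IsAffineHom g] {C : X.Modules} (hC : Coh.IsCoh C)
    (π : QCoh.pushUnit g ⟶ C) :
    haveI := hC.1
    (Coh.push g).map (ClSub.idealModι ((QCoh.annIdeal C hC.2).comap g)) ≫ π = 0 := by
  haveI := hC.1
  set J := QCoh.annIdeal C hC.2
  refine Scheme.Modules.hom_ext _ _ fun V ↦ AddCommGrpCat.ext fun k ↦ ?_
  refine TopCat.Presheaf.section_ext ⟨C.presheaf, C.isSheaf⟩ V _ 0 fun y hy ↦ ?_
  obtain ⟨U, hU, hyU, hUV⟩ := Opens.isBasis_iff_nbhd.1 X.isBasis_affineOpens hy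
  let V' : W.affineOpens := ⟨g ⁻¹ᵁ U, hU.preimage g⟩
  change C.presheaf.germ V y hy _ = C.presheaf.germ V y hy 0
  rw [map_zero, ← QCoh.germ_map C (homOfLE hUV) hyU]
  refine (congrArg (C.presheaf.germ U y hyU) ?_).trans (map_zero _)
  refine (QCoh.map_app ((Coh.push g).map (ClSub.idealModι (J.comap g)) ≫ π) (homOfLE hUV) k).trans ?_
  set k' := ((Coh.push g).obj (ClSub.idealMod (J.comap g))).presheaf.map (homOfLE hUV).op k
  show π.app U (show Γ(QCoh.pushUnit g, U) from IdealModSec.val (J.comap g) V'.1 k') = 0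
  have hmem := IdealModSec.val_mem (J.comap g) V' k'
  rw [BlowUp.ideal_comap_eq_map J g ⟨U, hU⟩ V' le_rfl] at hmem
  suffices ∀ r ∈ (J.ideal ⟨U, hU⟩).map (g.appLE U V'.1 le_rfl).hom, ∀ t : Γ(W, V'.1),
      π.app U (show Γ(QCoh.pushUnit g, U) from t * r) = 0 by
    have h := this _ hmem 1
    rwa [one_mul] at h
  intro r hr
  induction hr using Submodule.span_induction with
  | mem z hz =>
    obtain ⟨a, ha, rfl⟩ := hz
    intro t
    have e : (show Γ(QCoh.pushUnit g, U) from t * (g.appLE U V'.1 le_rfl).hom a) =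
        a • (show Γ(QCoh.pushUnit g, U) from t) := by
      show t * (g.appLE U V'.1 le_rfl).hom a = g.app U a * t
      rw [mul_comm, Scheme.Hom.app_eq_appLE]
    rw [e]
    refine ((QCoh.appLinear π U).map_smul a _).trans ?_
    exact QCoh.killedByIdeal_annIdeal C hC.2 ⟨U, hU⟩ a ha _
  | zero => intro t; rw [mul_zero]; exact map_zero _
  | add r r' _ _ h h' =>
    intro t
    rw [mul_add]
    refine (map_add (π.app U).hom _ _).trans ?_
    exact (congrArg₂ (· + ·) (h t) (h' t)).trans (add_zero _)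
  | smul c r _ h =>
    intro t
    rw [smul_eq_mul, ← mul_assoc]
    exact h (t * c)

/-- At a point outside the support the direct image of the pulled back ideal is everything. -/
theorem bijective_stalkLin_push_map_idealModι [IsAffineHom g] [IsLocallyNoetherian X]
    (J : X.IdealSheafData) {x : X} (hx : x ∉ (J.support : Set X)) :
    Function.Bijective (QCoh.stalkLin ((Coh.push g).map (ClSub.idealModι (J.comap g))) x) := by
  have : Mono ((Coh.push g).map (ClSub.idealModι (J.comap g))) :=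
    QCoh.mono_of_app_injective _ fun V ↦ IdealModSec.val_injective (J.comap g) (g ⁻¹ᵁ V)
  refine ⟨QCoh.stalkLin_injective _ x, fun e ↦ ?_⟩
  obtain ⟨V, hV, s, rfl⟩ := TopCat.Presheaf.exists_germ_eq (QCoh.pushUnit g).presheaf e
  obtain ⟨U, hU, hxU, hUV⟩ := Opens.isBasis_iff_nbhd.1 X.isBasis_affineOpens hV
  obtain ⟨a, ha, hxa⟩ : ∃ a ∈ J.ideal ⟨U, hU⟩, x ∈ X.basicOpen a := by
    by_contra h
    push Not at h
    exact hx ((Scheme.IdealSheafData.mem_support_iff_of_mem (U := ⟨U, hU⟩) hxU).2
      ((Scheme.mem_zeroLocus_iff _ _ _).2 h))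
  let V' : W.affineOpens := ⟨g ⁻¹ᵁ U, hU.preimage g⟩
  let s' : Γ(W, V'.1) := show Γ(W, g ⁻¹ᵁ U) from (QCoh.pushUnit g).presheaf.map (homOfLE hUV).op s
  have hmem : g.app U a * s' ∈ (J.comap g).ideal V' := by
    rw [BlowUp.ideal_comap_eq_map J g ⟨U, hU⟩ V' le_rfl]
    refine Ideal.mul_mem_right _ _ ?_
    rw [← Scheme.Hom.app_eq_appLE]
    exact Ideal.mem_map_of_mem _ ha
  obtain ⟨k, hk⟩ := IdealModSec.exists_val_eq (J.comap g) V' hmem
  have hu := (Scheme.mem_basicOpen _ a x hxU).1 hxa
  let k₀ : Γ((Coh.push g).obj (ClSub.idealMod (J.comap g)), U) := k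
  refine ⟨((hu.unit⁻¹ : _ˣ) : X.presheaf.stalk x) •
    ((Coh.push g).obj (ClSub.idealMod (J.comap g))).presheaf.germ U x hxU k₀, ?_⟩
  rw [map_smul, QCoh.stalkLin_germ]
  have h1 : ((Coh.push g).map (ClSub.idealModι (J.comap g))).app U k₀ =
      a • (QCoh.pushUnit g).presheaf.map (homOfLE hUV).op s := hk
  rw [h1, WeakAss.germ_smul, smul_smul, IsUnit.val_inv_mul, one_smul]
  exact QCoh.germ_map _ _ _ _

theorem exists_integral_dominating {X Y Z : Scheme.{u}} (f : Y ⟶ X) [Surjective f] (i : Z ⟶ X)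
    [IsIntegral Z] :
    ∃ (W : Scheme.{u}) (j : W ⟶ Y) (_ : IsIntegral W), IsClosedImmersion j ∧
      (j ≫ f) (genericPoint W) = i (genericPoint Z) := by
  obtain ⟨y, hy⟩ := f.surjective (i (genericPoint Z))
  let T : Closeds Y := ⟨closure {y}, isClosed_closure⟩
  let j := (Scheme.IdealSheafData.vanishingIdeal T).subschemeι
  have hrange : Set.range j = (T : Set Y) := RedSub.range_subschemeι_vanishingIdeal T
  have := RedSub.isReduced_subscheme_vanishingIdeal T
  have : IrreducibleSpace (Scheme.IdealSheafData.vanishingIdeal T).subscheme := by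
    rw [irreducibleSpace_def, Set.top_eq_univ]
    obtain ⟨z, hz⟩ : y ∈ Set.range j := hrange.symm ▸ subset_closure rfl
    have hpre : closure {z} = (Set.univ : Set _) := by
      rw [j.isClosedEmbedding.isInducing.closure_eq_preimage_closure_image, Set.image_singleton, hz]
      exact Set.eq_univ_of_forall fun w ↦ (hrange ▸ ⟨w, rfl⟩ : j w ∈ (T : Set Y))
    exact hpre ▸ isIrreducible_singleton.closure
  have := isIntegral_of_irreducibleSpace_of_isReduced (Scheme.IdealSheafData.vanishingIdeal T).subscheme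
  refine ⟨_, j, this, inferInstance, ?_⟩
  rw [Scheme.Hom.comp_apply, ← hy]
  exact congrArg f (inseparable_iff_closure_eq.2
    ((QCoh.closure_singleton_eq_range j).trans hrange)).eq

open GrothLib.Ample (Cocycle)
open GrothLib.SerreVanish (EvAcyclic)

variable (A : Type u) [CommRing A] [IsNoetherianRing A] {X Y : Scheme.{u}}
  [X.Over (Spec (CommRingCat.of A))] [IsProper (X ↘ Spec (CommRingCat.of A))]

omit [IsNoetherianRing A] [IsProper (X ↘ Spec (CommRingCat.of A))] in
include A in
theorem evAcyclic_of_retract (c : Cocycle X) {M N : X.Modules} (s : N ⟶ M) (r : M ⟶ N)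
    (h : s ≫ r = 𝟙 N) (hM : EvAcyclic c M) : EvAcyclic c N := by
  obtain ⟨n₀, h₀⟩ := hM
  refine ⟨n₀, fun n hn i hi ↦ subsingleton_of_forall_eq 0 fun x ↦ ?_⟩
  have := h₀ n hn i hi
  have e : Cohom.hhMap A (c.mtwistMap r n) i (Cohom.hhMap A (c.mtwistMap s n) i x) = x := by
    rw [← Euler.hhMap_comp, ← SerreVanish.mtwistMap_comp, h, Nakai.mtwistMap_id, SerreVanish.hhMap_id]
  rw [← e, Subsingleton.elim (Cohom.hhMap A (c.mtwistMap s n) i x) 0, map_zero]

variable (f : Y ⟶ X) [IsFinite f] [Surjective f]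

include A f in
theorem evAcyclic_of_finite_surjective (c : Cocycle X) (hc : (c.comap f).IsAmp)
    {L : X.Modules} (e : L ≅ c.twist 1) {M : X.Modules} (hM : Coh.IsCoh M) :
    EvAcyclic c M := by
  haveI := SerreVanish.isNoetherian_of_proper (X := X) A
  haveI : CompactSpace Y := QuasiCompact.compactSpace_of_compactSpace f
  obtain ⟨d⟩ := c.nonempty_pullback_iso f e
  have hampY : CohB1.IsAmple ((Scheme.Modules.pullback f).obj L) :=
    ((c.comap f).isAmple_iff d).2 ⟨inferInstance, hc⟩
  suffices ∀ (T : Closeds X) (M : X.Modules), Coh.IsCoh M → CohB1.support M = T → EvAcyclic c M from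
    this ⟨_, QCoh.isClosed_support_of_isCoh hM⟩ M hM rfl
  intro T
  induction T using WellFounded.induction (r := ((· < ·) : Closeds X → Closeds X → Prop))
    wellFounded_lt with
  | _ T ih =>
    intro M hM hMT
    have hiso : ∀ M N : X.Modules, Nonempty (M ≅ N) → EvAcyclic c M → EvAcyclic c N := fun M N ⟨e⟩ ↦
      Nakai.evAcyclic_of_iso c A e
    refine QCoh.coh_induction (EvAcyclic c) hiso (fun M ↦ Nakai.evAcyclic_of_isZero c)
      (fun S hS _ _ _ ↦ Nakai.evAcyclic_X₂ c A hS) M hM fun Z i hi hZ N ι hι hN hN0 hsub ↦ ?_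
    have hiT : Set.range i ⊆ (T : Set X) :=
      ((QCoh.range_subset_support_push i N ι hN hN0).trans hsub).trans hMT.le
    obtain ⟨W, j, _, _, hg⟩ := exists_integral_dominating f i
    let g := j ≫ f
    letI : W.Over (Spec (CommRingCat.of A)) := ⟨g ≫ X ↘ Spec (CommRingCat.of A)⟩
    haveI : IsProper (W ↘ Spec (CommRingCat.of A)) :=
      inferInstanceAs (IsProper (g ≫ X ↘ Spec (CommRingCat.of A)))
    haveI : IsLocallyNoetherian W := LocallyOfFiniteType.isLocallyNoetherian g
    have hampW : (c.comap g).IsAmp := by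
      obtain ⟨dg⟩ := c.nonempty_pullback_iso g e
      refine (((c.comap g).isAmple_iff dg).1 ?_).2
      exact (Ample.isAmple_pullback_comp_iff j f L).1 (Ample.isAmple_pullback_of_isAffineHom j hampY)
    have hO : Coh.IsCoh (Coh.structureModule W) := HomSh.isCoh_structureModule W
    have hG : Coh.IsCoh (QCoh.pushUnit g) :=
      have := hO.1
      ⟨QCoh.isQuasicoherent_pushforward g _, QCoh.isFiniteType_pushforward g _ hO.2⟩
    refine QCoh.piece_of_submodules i (EvAcyclic c) hiso
      (fun S hS _ _ _ ↦ Nakai.evAcyclic_X₂ c A hS)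
      (fun F k hk _ h ↦ evAcyclic_of_retract A c (Sigma.ι (fun _ : Fin k ↦ F) ⟨0, hk⟩)
        (Sigma.desc fun _ ↦ 𝟙 F) (Sigma.ι_desc _ _) h)
      (fun B hB hBs hx ↦ ih ⟨_, QCoh.isClosed_support_of_isCoh hB⟩
        (lt_of_le_of_ne (hBs.trans hiT) fun e ↦
          hx ((SetLike.ext'_iff.1 e).symm.le (hiT ⟨genericPoint Z, rfl⟩))) B hB rfl)
      (QCoh.pushUnit g) hG (hg ▸ Affine25.mem_support_pushUnit g)
      (hg ▸ Affine25.smul_pushUnit_eq_zero g) (fun G₁ m hm hG₁ hb ↦ ?_) N ι hN hN0
    have hC := QCoh.isCoh_cokernel m hG₁ hG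
    haveI := hC.1
    set J := QCoh.annIdeal (cokernel m) hC.2
    have hx : i (genericPoint Z) ∉ (J.support : Set X) := by
      rw [QCoh.coe_support_annIdeal]
      exact QCoh.notMem_support_cokernel_of_surjective m hb.2
    set K := J.comap g
    let κ := (Coh.push g).map (ClSub.idealModι K)
    haveI : Mono κ :=
      QCoh.mono_of_app_injective _ fun V ↦ IdealModSec.val_injective K (g ⁻¹ᵁ V)
    have hw : κ ≫ cokernel.π m = 0 := push_map_idealModι_comp g hC (cokernel.π m)
    let a := Abelian.monoLift m κ hw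
    have ha : a ≫ m = κ := Abelian.monoLift_comp m _ hw
    haveI : Mono a := @mono_of_mono _ _ _ _ _ a m (ha.symm ▸ inferInstance)
    have hK : Coh.IsCoh (ClSub.idealMod K) := by
      haveI : IsLocallyNoetherian K.subscheme := LocallyOfFiniteType.isLocallyNoetherian K.subschemeι
      haveI := Cohom.isQuasicoherent_structureModule K.subscheme
      exact QCoh.isCoh_kernel _ hO ⟨QCoh.isQuasicoherent_pushforward _ _,
        QCoh.isFiniteType_pushforward _ _ (HomSh.isCoh_structureModule _).2⟩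
    haveI := hK.1
    refine ⟨_, a, inferInstance,
      ⟨QCoh.isQuasicoherent_pushforward g _, QCoh.isFiniteType_pushforward g _ hK.2⟩,
      (Function.Bijective.of_comp_iff' hb _).1 ?_, ?_⟩
    · rw [show ⇑(QCoh.stalkLin m (i (genericPoint Z))) ∘ ⇑(QCoh.stalkLin a (i (genericPoint Z))) =
          ⇑(QCoh.stalkLin κ (i (genericPoint Z))) from funext fun e ↦ by
        rw [← ha, QCoh.stalkLin_comp]; rfl]
      exact bijective_stalkLin_push_map_idealModι g J hx
    · obtain ⟨n₀, hn₀⟩ := SerreVanish.evAcyclic (c.comap g) A hampW hK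
      refine ⟨n₀, fun n hn p hp ↦ ?_⟩
      haveI := hn₀ n hn p hp
      haveI := (c.comap g).isQuasicoherent_modTwist (ClSub.idealMod K) n
      obtain ⟨e'⟩ := Cohom.nonempty_HH_equiv_pushforward g ((c.comap g).modTwist (ClSub.idealMod K) n) p
      obtain ⟨e''⟩ := c.nonempty_push_modTwist g (ClSub.idealMod K) n
      haveI : Subsingleton (Coh.HH X
          ((Scheme.Modules.pushforward g).obj ((c.comap g).modTwist (ClSub.idealMod K) n)) p) :=
        e'.symm.toEquiv.subsingleton
      exact (Euler.hhEquiv (A := A) e'' p).toEquiv.symm.subsingleton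

include A in
/-- An invertible module with ample pullback along a finite surjective morphism is ample. -/
theorem isAmple_of_pullback_finite_surjective {L : X.Modules} (hL : PicF.IsInvertible L)
    (h : CohB1.IsAmple ((Scheme.Modules.pullback f).obj L)) : CohB1.IsAmple L := by
  haveI := SerreVanish.isNoetherian_of_proper (X := X) A
  obtain ⟨c, ⟨e⟩⟩ := Ample.exists_cocycle hL
  obtain ⟨d⟩ := c.nonempty_pullback_iso f e
  rw [c.isAmple_iff e]
  refine ⟨inferInstance, c.isAmp_of_subsingleton_H1 fun T ↦ ?_⟩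
  obtain ⟨n₀, hn₀⟩ := evAcyclic_of_finite_surjective A f c (((c.comap f).isAmple_iff d).1 h).2 e
    (SerreVanish.isCoh_vMod A T)
  exact ⟨n₀, hn₀ (n₀ + 1) (Nat.le_succ _) 1 le_rfl⟩

end GrothLib.Ample25
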